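import Groth.Agent.Lib.QCoh.DevissageSummands
import Groth.Agent.Lib.QCoh.AvoidSub
import Groth.Agent.Lib.K0Sub.KerUnit
import Groth.Agent.Lib.HomSh.Coherent
import Groth.Agent.Lib.AssPts.Flat
import Groth.Agent.Lib.QCoh.SchSupport
import Mathlib.RingTheory.Nakayama

/-!
# Serre classes of coherent modules and closed subsets
-/

set_option autoImplicit false
set_option linter.style.haveILetI false

universe u

open CategoryTheory CategoryTheory.Limits AlgebraicGeometry TopologicalSpace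

namespace GrothLib.CohGab3

open GrothLib.QCoh

variable {X : Scheme.{u}}

/-- A Serre class of coherent modules. -/
abbrev IsSerre (P : X.Modules → Prop) : Prop :=
  ∀ S : ShortComplex X.Modules, S.ShortExact → Coh.IsCoh S.X₁ → Coh.IsCoh S.X₂ →
    Coh.IsCoh S.X₃ → (P S.X₂ ↔ P S.X₁ ∧ P S.X₃)

/-- The coherent modules supported in a set form a Serre class. -/
theorem isSerre_support (T : Set X) : IsSerre fun M : X.Modules => CohB1.support M ⊆ T := by
  intro S hS _ _ _
  haveI := hS.mono_f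
  haveI := hS.epi_g
  exact ⟨fun h => ⟨(support_subset_of_mono S.f).trans h, (support_subset_of_epi S.g).trans h⟩,
    fun h => (support_subset_union hS).trans (Set.union_subset h.1 h.2)⟩

theorem isSerre_support_and (T : Set X) (ξ : X) :
    IsSerre fun M : X.Modules => CohB1.support M ⊆ T ∧ ξ ∉ CohB1.support M := by
  intro S hS h1 h2 h3
  have := isSerre_support (T ∩ {ξ}ᶜ) S hS h1 h2 h3
  simpa [Set.subset_inter_iff, Set.subset_compl_singleton_iff] using this

set_option linter.unusedSectionVars false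

variable [IsLocallyNoetherian X]

/-- The restriction of a coherent module to a closed subscheme is nonzero where the module is. -/
theorem mem_support_pushPull {Z : Scheme.{u}} (i : Z ⟶ X) [IsClosedImmersion i] {F : X.Modules}
    (hF : Coh.IsCoh F) {x : X} (hx : x ∈ Set.range i) (hxF : x ∈ CohB1.support F) :
    x ∈ CohB1.support ((Scheme.Modules.pushforward i).obj ((Scheme.Modules.pullback i).obj F)) := by
  haveI := hF.1
  by_contra hns
  haveI := stalk_subsingleton_of_notMem hns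
  haveI := K0Sub.isQuasicoherent_pushPull i F
  refine hxF ?_
  haveI := stalk_finite F hF x
  have hle : (⊤ : Submodule (X.presheaf.stalk x) (F.presheaf.stalk x)) ≤
      IsLocalRing.maximalIdeal (X.presheaf.stalk x) • ⊤ := by
    intro e _
    obtain ⟨W, hW, hxW, -⟩ := Opens.isBasis_iff_nbhd.1 X.isBasis_affineOpens (Opens.mem_top x)
    obtain ⟨c, z, hc, hz⟩ := WeakAss.exists_smul_eq_germ hW hxW e
    obtain ⟨d, hd, hdz⟩ := (WeakAss.germ_eq_zero_iff hW hxW ((K0Sub.unitApp i F).app W z)).1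
      (Subsingleton.elim _ _)
    have hdz' : (K0Sub.unitApp i F).app W (d • z) = 0 :=
      ((appLinear (K0Sub.unitApp i F) W).map_smul d z).trans hdz
    have hmem := ((K0Sub.app_unit_surjective_and_ker i F ⟨W, hW⟩).2 _).1 hdz'
    have hgerm : ∀ m ∈ i.ker.ideal ⟨W, hW⟩ • (⊤ : Submodule Γ(X, W) Γ(F, W)),
        F.presheaf.germ W x hxW m ∈
          (IsLocalRing.maximalIdeal (X.presheaf.stalk x) • ⊤ :
            Submodule (X.presheaf.stalk x) (F.presheaf.stalk x)) := by
      intro m hm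
      induction hm using Submodule.smul_induction_on' with
      | smul a ha m _ =>
        rw [WeakAss.germ_smul]
        refine Submodule.smul_mem_smul ?_ trivial
        rw [IsLocalRing.mem_maximalIdeal, mem_nonunits_iff]
        intro hu
        rw [Scheme.Hom.ker_apply, RingHom.mem_ker] at ha
        obtain ⟨z', rfl⟩ := hx
        have h1 : z' ∈ i ⁻¹ᵁ X.basicOpen a := (Scheme.mem_basicOpen _ a _ hxW).2 hu
        rw [Scheme.preimage_basicOpen, ha] at h1
        rwa [Scheme.basicOpen_zero] at h1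
      | add a _ b _ ha hb => rw [map_add]; exact add_mem ha hb
    have h2 := hgerm _ hmem
    rw [WeakAss.germ_smul, ← hz, smul_smul] at h2
    have hu := ((Scheme.mem_basicOpen _ d x hxW).mp (WeakAss.notMem_primeAt_iff.mp hd)).mul
      ((Scheme.mem_basicOpen _ c x hxW).mp (WeakAss.notMem_primeAt_iff.mp hc))
    exact (Submodule.smul_mem_iff_of_isUnit _ hu).1 h2
  have h0 : (⊤ : Submodule (X.presheaf.stalk x) (F.presheaf.stalk x)) = ⊥ :=
    Submodule.eq_bot_of_le_smul_of_le_jacobson_bot _ _ Module.Finite.fg_top hle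
      (IsLocalRing.maximalIdeal_le_jacobson _)
  exact subsingleton_of_forall_eq 0 fun e => (Submodule.mem_bot _).1 (h0 ▸ Submodule.mem_top)

/-- Every closed subset is the support of a coherent module. -/
theorem exists_support_eq (T : Closeds X) :
    ∃ F : X.Modules, Coh.IsCoh F ∧ CohB1.support F = (T : Set X) := by
  let i := (Scheme.IdealSheafData.vanishingIdeal T).subschemeι
  have hO := HomSh.isCoh_structureModule X
  refine ⟨_, K0Sub.isCoh_pushPull i hO, Set.Subset.antisymm ?_ fun x hx => ?_⟩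
  · exact (support_pushforward_subset_range i _).trans (RedSub.range_subschemeι_vanishingIdeal T).le
  · refine mem_support_pushPull i hO ((RedSub.range_subschemeι_vanishingIdeal T).symm ▸ hx) fun h => ?_
    obtain ⟨e⟩ := AssPts.exists_stalk_unit_equiv x
    exact not_subsingleton (X.presheaf.stalk x) (e.toEquiv.subsingleton)

omit [IsLocallyNoetherian X] in
theorem mem_of_iso_aux {M N : X.Modules} (e : M ≅ N) :
    ∃ (w : (0 : (kernel (𝟙 M)) ⟶ M) ≫ e.hom = 0),
      (ShortComplex.mk (0 : (kernel (𝟙 M)) ⟶ M) e.hom w).ShortExact := by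
  have hz : IsZero (kernel (𝟙 M)) := isZero_kernel_of_mono _
  refine ⟨zero_comp, ShortComplex.ShortExact.mk' ?_ ⟨fun g h _ => hz.eq_of_tgt g h⟩ inferInstance⟩
  rw [ShortComplex.exact_iff_mono _ rfl]
  infer_instance

/-- **Dévissage for Serre classes**: a Serre class containing `F` contains all coherent modules
supported in the support of `F`. -/
theorem mem_of_support [IsNoetherian X] (P : X.Modules → Prop) (hP : IsSerre P) {F : X.Modules}
    (hF : Coh.IsCoh F) (hPF : P F) (E : X.Modules) (hE : Coh.IsCoh E)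
    (hsupp : CohB1.support E ⊆ CohB1.support F) : P E := by
  let P' : X.Modules → Prop := fun M => Coh.IsCoh M → P M
  have hiso : ∀ M N : X.Modules, Nonempty (M ≅ N) → P' M → P' N := by
    rintro M N ⟨e⟩ hM hN
    have hM' := isCoh_of_iso e.symm hN
    obtain ⟨w, hS⟩ := mem_of_iso_aux e
    exact ((hP _ hS (isCoh_kernel _ hM' hM') hM' hN).1 (hM hM')).2
  have hzero : ∀ M : X.Modules, IsZero M → P' M := by
    intro M hM hMc
    obtain ⟨w, hS⟩ := mem_of_iso_aux (Iso.refl F)
    have h := ((hP _ hS (isCoh_kernel _ hF hF) hF hF).1 hPF).1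
    exact hiso _ _ ⟨(isZero_kernel_of_mono (𝟙 F)).iso hM⟩ (fun _ => h) hMc
  have h₁ : ∀ S : ShortComplex X.Modules, S.ShortExact → Coh.IsCoh S.X₁ → Coh.IsCoh S.X₂ →
      Coh.IsCoh S.X₃ →
      (P' S.X₁ → P' S.X₂ → P' S.X₃) ∧ (P' S.X₁ → P' S.X₃ → P' S.X₂) ∧ (P' S.X₂ → P' S.X₃ → P' S.X₁) :=
    fun S hS a b c => ⟨fun _ h2 _ => ((hP S hS a b c).1 (h2 b)).2,
      fun h1 h3 _ => (hP S hS a b c).2 ⟨h1 a, h3 c⟩, fun h2 _ _ => ((hP S hS a b c).1 (h2 b)).1⟩
  suffices h : ∀ (T : Closeds X) (M : X.Modules), (T : Set X) ⊆ CohB1.support F → Coh.IsCoh M →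
      CohB1.support M ⊆ T → P M from
    h ⟨_, isClosed_support_of_isCoh hF⟩ E subset_rfl hE hsupp
  intro T
  induction T using WellFounded.induction (r := ((· < ·) : Closeds X → Closeds X → Prop))
    wellFounded_lt with
  | _ T ih =>
    intro M hTF hM hMT
    refine devissage P' hiso hzero h₁ (T : Set X) (fun Z i _ _ hsub => ?_) M hM hMT hM
    obtain ⟨e⟩ := nonempty_pushUnit_stalk_equiv i
    refine ⟨pushUnit i, pushUnit_isCoh i, support_pushforward_subset_range i _, ⟨e⟩, ?_⟩
    have hG := K0Sub.isCoh_pushPull i hF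
    haveI := hF.1
    haveI := K0Sub.isQuasicoherent_pushPull i F
    haveI : Epi (K0Sub.unitApp i F) :=
      K0Sub.epi_of_app_surjective _ fun U => (K0Sub.app_unit_surjective_and_ker i F U).1
    have hPG : P' ((Scheme.Modules.pushforward i).obj ((Scheme.Modules.pullback i).obj F)) := fun _ =>
      ((hP _ (ShortComplex.ShortExact.mk' (ShortComplex.exact_kernel (K0Sub.unitApp i F)) inferInstance inferInstance)
        (isCoh_kernel _ hF hG) hF hG).1 hPF).2
    refine pushUnit_of_mem_support i P' (fun S hS a b c _ => h₁ S hS a b c)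
      (fun M' hM' hsub' hx _ => ?_) (fun A B a r har hA hB h => ?_) _ hG
      (K0Sub.killedByIdeal_push i _)
      (mem_support_pushPull i hF ⟨_, rfl⟩ (hTF (hsub ⟨_, rfl⟩))) hPG
    · refine ih ⟨_, isClosed_support_of_isCoh hM'⟩ (lt_of_le_of_ne (hsub'.trans hsub) fun e' => hx ?_)
        M' ((hsub'.trans hsub).trans hTF) hM' subset_rfl
      exact (SetLike.ext'_iff.1 e').ge (hsub ⟨_, rfl⟩)
    · haveI : Epi r := epi_of_epi_fac har
      intro _
      exact ((hP _ (ShortComplex.ShortExact.mk' (ShortComplex.exact_kernel r) inferInstance inferInstance)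
        (isCoh_kernel _ hA hB) hA hB).1 (h hA)).2

theorem existsUnique_closeds [IsNoetherian X] (P : X.Modules → Prop) (hP : IsSerre P) (F : X.Modules)
    (hF : Coh.IsCoh F) (hPF : P F)
    (hgen : ∀ Q : X.Modules → Prop, IsSerre Q → Q F → ∀ M : X.Modules, Coh.IsCoh M → P M → Q M) :
    ∃! Z : Closeds X, ∀ M : X.Modules, Coh.IsCoh M → (P M ↔ CohB1.support M ⊆ (Z : Set X)) := by
  refine ⟨⟨_, isClosed_support_of_isCoh hF⟩, fun M hM => ⟨fun h => ?_, fun h => ?_⟩, fun Z hZ => ?_⟩
  · exact hgen _ (isSerre_support _) subset_rfl M hM h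
  · exact mem_of_support P hP hF hPF M hM h
  · refine SetLike.ext' (Set.Subset.antisymm ?_ ((hZ F hF).1 hPF))
    obtain ⟨G, hG, hGs⟩ := exists_support_eq Z
    have := hgen _ (isSerre_support (CohB1.support F)) subset_rfl G hG ((hZ G hG).2 hGs.le)
    exact hGs ▸ this

theorem isPreirreducible_iff [IsNoetherian X] (Z : Closeds X) :
    IsPreirreducible (Z : Set X) ↔
    ∀ J₁ J₂ : X.Modules → Prop, IsSerre J₁ → IsSerre J₂ →
      (∀ M : X.Modules, Coh.IsCoh M → J₁ M → CohB1.support M ⊆ (Z : Set X)) →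
      (∀ M : X.Modules, Coh.IsCoh M → J₂ M → CohB1.support M ⊆ (Z : Set X)) →
      (∀ Q : X.Modules → Prop, IsSerre Q →
        (∀ M : X.Modules, Coh.IsCoh M → J₁ M → Q M) → (∀ M : X.Modules, Coh.IsCoh M → J₂ M → Q M) →
        ∀ M : X.Modules, Coh.IsCoh M → CohB1.support M ⊆ (Z : Set X) → Q M) →
      (∀ M : X.Modules, Coh.IsCoh M → CohB1.support M ⊆ (Z : Set X) → J₁ M) ∨
        (∀ M : X.Modules, Coh.IsCoh M → CohB1.support M ⊆ (Z : Set X) → J₂ M) := by
  constructor
  · intro hZ J₁ J₂ hJ₁ hJ₂ hs₁ hs₂ hgen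
    obtain ⟨G, hG, hGs⟩ := exists_support_eq Z
    -- some member of `J₁` or `J₂` has full support in `Z`
    suffices h : ∃ M : X.Modules, Coh.IsCoh M ∧ (J₁ M ∨ J₂ M) ∧ (Z : Set X) ⊆ CohB1.support M by
      obtain ⟨M, hM, h1 | h2, hsub⟩ := h
      · exact Or.inl fun E hE hEZ => mem_of_support J₁ hJ₁ hM h1 E hE (hEZ.trans hsub)
      · exact Or.inr fun E hE hEZ => mem_of_support J₂ hJ₂ hM h2 E hE (hEZ.trans hsub)
    rcases (Z : Set X).eq_empty_or_nonempty with he | hne
    · by_contra hno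
      push Not at hno
      refine hgen (fun _ => False) (fun S _ _ _ _ => by simp) ?_ ?_ G hG hGs.le
      · intro M hM h1
        exact (hno M hM (Or.inl h1)) (he ▸ Set.empty_subset _)
      · intro M hM h2
        exact (hno M hM (Or.inr h2)) (he ▸ Set.empty_subset _)
    · obtain ⟨ξ, hξ⟩ := QuasiSober.sober (⟨hne, hZ⟩ : IsIrreducible (Z : Set X)) Z.isClosed
      by_contra hno
      push Not at hno
      have key : ∀ M : X.Modules, Coh.IsCoh M → (J₁ M ∨ J₂ M) → CohB1.support M ⊆ (Z : Set X) →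
          CohB1.support M ⊆ (Z : Set X) ∧ ξ ∉ CohB1.support M := fun M hM hJ hs => ⟨hs, fun hm =>
        hno M hM hJ (hξ ▸ (isClosed_support_of_isCoh hM).closure_subset_iff.2 (Set.singleton_subset_iff.2 hm))⟩
      have := hgen _ (isSerre_support_and (Z : Set X) ξ)
        (fun M hM h => key M hM (Or.inl h) (hs₁ M hM h))
        (fun M hM h => key M hM (Or.inr h) (hs₂ M hM h)) G hG hGs.le
      exact this.2 (hGs.ge (hξ.mem))
  · intro h
    rw [isPreirreducible_iff_isClosed_union_isClosed]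
    intro z₁ z₂ h₁ h₂ hsub
    have hgen : ∀ Q : X.Modules → Prop, IsSerre Q →
        (∀ M : X.Modules, Coh.IsCoh M → CohB1.support M ⊆ (Z : Set X) ∩ z₁ → Q M) →
        (∀ M : X.Modules, Coh.IsCoh M → CohB1.support M ⊆ (Z : Set X) ∩ z₂ → Q M) →
        ∀ M : X.Modules, Coh.IsCoh M → CohB1.support M ⊆ (Z : Set X) → Q M := by
      intro Q hQ hQ₁ hQ₂ M hM hMZ
      obtain ⟨F₁, hF₁, hF₁s⟩ := exists_support_eq ⟨(Z : Set X) ∩ z₁, Z.isClosed.inter h₁⟩
      obtain ⟨F₂, hF₂, hF₂s⟩ := exists_support_eq ⟨(Z : Set X) ∩ z₂, Z.isClosed.inter h₂⟩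
      have hB := isCoh_biprod' hF₁ hF₂
      have hQB : Q (F₁ ⊞ F₂) := (hQ _ (ShortComplex.Splitting.ofHasBinaryBiproduct F₁ F₂).shortExact
        hF₁ hB hF₂).2 ⟨hQ₁ F₁ hF₁ hF₁s.le, hQ₂ F₂ hF₂ hF₂s.le⟩
      refine mem_of_support Q hQ hB hQB M hM fun x hx => ?_
      rcases hsub (hMZ hx) with h | h
      · exact support_subset_of_mono (biprod.inl : F₁ ⟶ F₁ ⊞ F₂) (hF₁s.ge ⟨hMZ hx, h⟩)
      · exact support_subset_of_mono (biprod.inr : F₂ ⟶ F₁ ⊞ F₂) (hF₂s.ge ⟨hMZ hx, h⟩)
    obtain ⟨G, hG, hGs⟩ := exists_support_eq Z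
    rcases h (fun M => CohB1.support M ⊆ (Z : Set X) ∩ z₁) (fun M => CohB1.support M ⊆ (Z : Set X) ∩ z₂)
      (isSerre_support _) (isSerre_support _) (fun M _ hM => hM.trans Set.inter_subset_left)
      (fun M _ hM => hM.trans Set.inter_subset_left) hgen with h | h
    · exact Or.inl ((hGs.ge.trans (h G hG hGs.le)).trans Set.inter_subset_right)
    · exact Or.inr ((hGs.ge.trans (h G hG hGs.le)).trans Set.inter_subset_right)

end GrothLib.CohGab3
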